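import Mathlib

/-!
# The rank one relation (helper992)

`H = U C ∪ U C n U` a group of rank one acting on a vector space `V` in characteristic prime to
`|U|`; if a set `T ∋ 1` with `T \ {1} ⊆ U C n U` has `∑ t ∈ T, t = 0` on `V` (e.g. `T` a subgroup of
order prime to the characteristic without fixed vectors), then `n c n⁻¹ = c` on `V^U` for all
`c ∈ C`.
-/

set_option autoImplicit false

namespace Cfsg.Agent.H992.RkOne

open Finset

variable {k : Type*} [Field k] {V : Type*} [AddCommGroup V] [Module k V] {G : Type*} [Group G]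

/-- the sum over the finite subgroup `U` -/
noncomputable def avg (ρ : G →* Module.End k V) (U : Subgroup G) [Fintype U] : Module.End k V :=
  ∑ u : U, ρ u

theorem mul_avg (ρ : G →* Module.End k V) (U : Subgroup G) [Fintype U] {g : G} (hg : g ∈ U) :
    ρ g * avg ρ U = avg ρ U := by
  classical
  unfold avg
  rw [Finset.mul_sum]
  refine Fintype.sum_equiv (Equiv.mulLeft (⟨g, hg⟩ : U)) _ _ fun x => ?_
  simp [map_mul]

theorem avg_mul (ρ : G →* Module.End k V) (U : Subgroup G) [Fintype U] {g : G} (hg : g ∈ U) :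
    avg ρ U * ρ g = avg ρ U := by
  classical
  unfold avg
  rw [Finset.sum_mul]
  refine Fintype.sum_equiv (Equiv.mulRight (⟨g, hg⟩ : U)) _ _ fun x => ?_
  simp [map_mul]

theorem avg_comm (ρ : G →* Module.End k V) (U : Subgroup G) [Fintype U] {c : G}
    (hc : ∀ u ∈ U, c * u * c⁻¹ ∈ U) : avg ρ U * ρ c = ρ c * avg ρ U := by
  classical
  have hinj : Function.Injective (fun x : U => (⟨c * x * c⁻¹, hc x x.2⟩ : U)) := by
    intro x y hxy
    have h := congrArg Subtype.val hxy
    simp only [mul_left_inj, mul_right_inj] at h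
    exact Subtype.ext h
  have hbij : Function.Bijective (fun x : U => (⟨c * x * c⁻¹, hc x x.2⟩ : U)) :=
    Finite.injective_iff_bijective.1 hinj
  unfold avg
  rw [Finset.mul_sum, Finset.sum_mul]
  symm
  refine Fintype.sum_bijective _ hbij _ _ fun x => ?_
  simp only [← map_mul]
  congr 1
  group

theorem avg_fix (ρ : G →* Module.End k V) (U : Subgroup G) [Fintype U] {w : V}
    (hw : ∀ u ∈ U, ρ u w = w) : avg ρ U w = (Fintype.card U : k) • w := by
  unfold avg
  rw [LinearMap.sum_apply, Finset.sum_congr rfl fun (u : U) _ => hw (u : G) u.2]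
  rw [Finset.sum_const, Finset.card_univ, Nat.cast_smul_eq_nsmul]

/-- **The rank one relation.** -/
theorem rank_one (ρ : G →* Module.End k V) (U C : Subgroup G) [Finite U]
    (hU : (Nat.card U : k) ≠ 0)
    (hCU : ∀ c ∈ C, ∀ u ∈ U, c * u * c⁻¹ ∈ U) (hCC : ∀ a ∈ C, ∀ b ∈ C, a * b = b * a)
    (n : G) (hnC : ∀ c ∈ C, n * c * n⁻¹ ∈ C)
    (T : Finset G) (h1 : 1 ∈ T)
    (hT : ∀ t ∈ T, t ≠ 1 → ∃ u ∈ U, ∃ c ∈ C, ∃ u' ∈ U, t = u * c * n * u')
    (hsum : ∀ v : V, ∑ t ∈ T, ρ t v = 0) {w : V} (hw : ∀ u ∈ U, ρ u w = w) {c : G} (hc : c ∈ C) :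
    ρ (n * c * n⁻¹) w = ρ c w := by
  classical
  haveI : Fintype U := Fintype.ofFinite U
  have hU' : (Fintype.card U : k) ≠ 0 := by rwa [← Nat.card_eq_fintype_card]
  -- the C-part of t
  choose! u hu c' hc' u' hu' htt using hT
  set E := avg ρ U with hE
  set A : Module.End k V := ∑ t ∈ T.erase 1, ρ (c' t) with hA
  have hAc : ∀ a ∈ C, ρ a * A = A * ρ a := by
    intro a ha
    rw [hA, Finset.mul_sum, Finset.sum_mul]
    refine Finset.sum_congr rfl fun t ht => ?_
    have h2 := hc' t (Finset.mem_of_mem_erase ht) (Finset.ne_of_mem_erase ht)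
    rw [← map_mul, ← map_mul, hCC a ha _ h2]
  -- A E ρ(n) m = - |U| m on fixed vectors
  have key : ∀ m : V, (∀ u ∈ U, ρ u m = m) → A (E (ρ n m)) = -((Fintype.card U : k) • m) := by
    intro m hm
    have h0 : E (∑ t ∈ T, ρ t m) = 0 := by rw [hsum m, map_zero]
    rw [← Finset.add_sum_erase T _ h1, map_add, map_one, Module.End.one_apply, avg_fix ρ U hm] at h0
    have h3 : E (∑ t ∈ T.erase 1, ρ t m) = A (E (ρ n m)) := by
      rw [map_sum, hA, LinearMap.sum_apply]
      refine Finset.sum_congr rfl fun t ht => ?_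
      have h4 := Finset.mem_of_mem_erase ht
      have h5 := Finset.ne_of_mem_erase ht
      have h6 : ρ t m = ρ (u t) (ρ (c' t) (ρ n m)) := by
        conv_lhs => rw [htt t h4 h5]
        rw [map_mul, map_mul, map_mul, Module.End.mul_apply, Module.End.mul_apply,
          Module.End.mul_apply, hm _ (hu' t h4 h5)]
      rw [h6, ← Module.End.mul_apply E, avg_mul ρ U (hu t h4 h5), ← Module.End.mul_apply E,
        avg_comm ρ U (hCU _ (hc' t h4 h5)), Module.End.mul_apply]
    rw [h3] at h0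
    rw [eq_neg_iff_add_eq_zero, add_comm]
    exact h0
  have hcw : ∀ u ∈ U, ρ u (ρ c w) = ρ c w := by
    intro x hx
    have h7 : c⁻¹ * x * c ∈ U := by
      have := hCU c⁻¹ (C.inv_mem hc) x hx
      simpa using this
    have h8 : x * c = c * (c⁻¹ * x * c) := by group
    rw [← Module.End.mul_apply, ← map_mul, h8, map_mul, Module.End.mul_apply, hw _ h7]
  have e1 := key (ρ c w) hcw
  have e2 := key w hw
  have h9 : n * c = (n * c * n⁻¹) * n := by group
  have hn := hnC c hc
  rw [← Module.End.mul_apply (ρ n), ← map_mul, h9, map_mul, Module.End.mul_apply,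
    ← Module.End.mul_apply E, avg_comm ρ U (hCU _ hn), Module.End.mul_apply,
    ← Module.End.mul_apply A, ← hAc _ hn, Module.End.mul_apply, e2, map_neg, map_smul, neg_inj] at e1
  exact smul_right_injective V hU' e1

/-- The shift lemma: `W` the kernel of `∑ i, r i`; conjugation by `y d` multiplies the elements of
`X \ X₀` by all the `r i` and fixes the elements of `X₀`. -/
theorem shift {ι : Type*} [Fintype ι] (ρ : G →* Module.End k V) (hι : (Fintype.card ι : k) ≠ 0)
    (r y : ι → G) (X X0 : Finset G) (hX0 : X0 ⊆ X)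
    (h1 : ∀ x ∈ X, x ∉ X0 → ∃ e : ι → ι, Function.Bijective e ∧ ∀ d, (y d)⁻¹ * x * y d = x * r (e d))
    (h2 : ∀ x ∈ X0, ∀ d, (y d)⁻¹ * x * y d = x)
    (hry : ∀ i d, r i * y d = y d * r i)
    (hX : ∀ w : V, ∑ i, ρ (r i) w = 0 → ∑ x ∈ X, ρ x w = 0) :
    ∀ w : V, ∑ i, ρ (r i) w = 0 → ∑ x ∈ X0, ρ x w = 0 := by
  classical
  intro w hw
  have h3 : ∀ d, ∑ x ∈ X, ρ ((y d)⁻¹ * x * y d) w = 0 := by
    intro d
    have h4 : ∑ i, ρ (r i) (ρ (y d) w) = 0 := by
      have : ∀ i, ρ (r i) (ρ (y d) w) = ρ (y d) (ρ (r i) w) := fun i => by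
        rw [← Module.End.mul_apply, ← map_mul, hry, map_mul, Module.End.mul_apply]
      rw [Finset.sum_congr rfl fun i _ => this i, ← map_sum, hw, map_zero]
    have h5 := congrArg (ρ (y d)⁻¹) (hX _ h4)
    rw [map_zero, map_sum] at h5
    rw [← h5]
    refine Finset.sum_congr rfl fun x _ => ?_
    rw [mul_assoc, map_mul, map_mul, Module.End.mul_apply, Module.End.mul_apply]
  have h6 : ∑ d, ∑ x ∈ X, ρ ((y d)⁻¹ * x * y d) w = 0 := Finset.sum_eq_zero fun d _ => h3 d
  rw [Finset.sum_comm, ← Finset.sum_sdiff hX0] at h6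
  have h7 : ∑ x ∈ X \ X0, ∑ d, ρ ((y d)⁻¹ * x * y d) w = 0 := by
    refine Finset.sum_eq_zero fun x hx => ?_
    obtain ⟨hxX, hx0⟩ := Finset.mem_sdiff.1 hx
    obtain ⟨e, he, hed⟩ := h1 x hxX hx0
    rw [Finset.sum_congr rfl fun d _ => by rw [hed d, map_mul, Module.End.mul_apply], ← map_sum,
      Fintype.sum_bijective e he (fun d => ρ (r (e d)) w) (fun i => ρ (r i) w) fun d => rfl, hw,
      map_zero]
  rw [h7, zero_add] at h6
  have h8 : ∑ x ∈ X0, ∑ d : ι, ρ ((y d)⁻¹ * x * y d) w = (Fintype.card ι : k) • ∑ x ∈ X0, ρ x w := by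
    rw [Finset.smul_sum]
    refine Finset.sum_congr rfl fun x hx => ?_
    rw [Finset.sum_congr rfl fun d _ => by rw [h2 x hx d], Finset.sum_const, Finset.card_univ,
      Nat.cast_smul_eq_nsmul]
  rw [h8] at h6
  exact (smul_eq_zero.1 h6).resolve_left hι

/-- **Criterion for cross characteristic** (used for `E₈(u)`, `H = SU₃(u⁴)`): see the module
docstring; `R₃ = {r i}` is the centre of the radical, `U ≤ C(R₃)`, `y₂` shifts `U \ Z` and `y₁`
shifts `Z \ {1}` by all elements of `R₃`. Then all of `R₃` acts trivially. -/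
theorem cross {ι : Type*} [Fintype ι] (ρ : G →* Module.End k V) (hι : (Fintype.card ι : k) ≠ 0)
    (r y1 y2 : ι → G) (U Z C : Subgroup G) [Finite U] (hZU : Z ≤ U) (hU : (Nat.card U : k) ≠ 0)
    (h21 : ∀ x ∈ U, x ∉ Z → ∃ e : ι → ι, Function.Bijective e ∧
      ∀ d, (y2 d)⁻¹ * x * y2 d = x * r (e d))
    (h22 : ∀ x ∈ Z, ∀ d, (y2 d)⁻¹ * x * y2 d = x)
    (h11 : ∀ x ∈ Z, x ≠ 1 → ∃ e : ι → ι, Function.Bijective e ∧
      ∀ d, (y1 d)⁻¹ * x * y1 d = x * r (e d))
    (hr1 : ∀ i d, r i * y1 d = y1 d * r i) (hr2 : ∀ i d, r i * y2 d = y2 d * r i)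
    (hrU : ∀ i, ∀ x ∈ U, r i * x = x * r i)
    (hCU : ∀ c ∈ C, ∀ u ∈ U, c * u * c⁻¹ ∈ U) (hCC : ∀ a ∈ C, ∀ b ∈ C, a * b = b * a)
    (n : G) (hnC : ∀ c ∈ C, n * c * n⁻¹ ∈ C)
    (T : Finset G) (h1 : 1 ∈ T)
    (hT : ∀ t ∈ T, t ≠ 1 → ∃ u ∈ U, ∃ c ∈ C, ∃ u' ∈ U, t = u * c * n * u')
    (hsum : ∀ v : V, ∑ t ∈ T, ρ t v = 0)
    {c : G} (hc : c ∈ C)
    (hcr : ∀ i : ι, ∃ j : ι, (c⁻¹ * (n * c * n⁻¹)) * r j * (c⁻¹ * (n * c * n⁻¹))⁻¹ = r j * r i) :
    ∀ w : V, ∑ i, ρ (r i) w = 0 → w = 0 := by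
  classical
  haveI : Fintype U := Fintype.ofFinite U
  have hU' : (Fintype.card U : k) ≠ 0 := by rwa [← Nat.card_eq_fintype_card]
  set g := c⁻¹ * (n * c * n⁻¹) with hg
  have hgw : ∀ w : V, (∀ u ∈ U, ρ u w = w) → ρ g w = w := by
    intro w hw
    have h := rank_one ρ U C hU hCU hCC n hnC T h1 hT hsum hw hc
    rw [hg, map_mul, Module.End.mul_apply, h, ← Module.End.mul_apply, ← map_mul, inv_mul_cancel,
      map_one, Module.End.one_apply]
  -- U-fixed vectors of W vanish
  have hfix : ∀ w : V, ∑ i, ρ (r i) w = 0 → (∀ u ∈ U, ρ u w = w) → w = 0 := by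
    intro w hw hwU
    have hri : ∀ i, ∀ u ∈ U, ρ u (ρ (r i) w) = ρ (r i) w := by
      intro i u hu
      rw [← Module.End.mul_apply, ← map_mul, ← hrU i u hu, map_mul, Module.End.mul_apply, hwU u hu]
    have h2 : ∀ i, ρ (r i) w = w := by
      intro i
      obtain ⟨j, hj⟩ := hcr i
      have h3 : ρ (g * r j * g⁻¹) w = ρ (r j) w := by
        have h4 : ρ g⁻¹ w = w := by
          conv_lhs => rw [← hgw w hwU]
          rw [← Module.End.mul_apply, ← map_mul, inv_mul_cancel, map_one, Module.End.one_apply]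
        rw [map_mul, map_mul, Module.End.mul_apply, Module.End.mul_apply, h4, hgw _ (hri j)]
      rw [hj, map_mul, Module.End.mul_apply] at h3
      have h5 := congrArg (ρ (r j)⁻¹) h3
      have h6 : ∀ v : V, ρ (r j)⁻¹ (ρ (r j) v) = v := by
        intro v
        rw [← Module.End.mul_apply, ← map_mul, inv_mul_cancel, map_one, Module.End.one_apply]
      rwa [h6, h6] at h5
    rw [Finset.sum_congr rfl fun i _ => h2 i, Finset.sum_const, Finset.card_univ,
      ← Nat.cast_smul_eq_nsmul k] at hw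
    exact (smul_eq_zero.1 hw).resolve_left hι
  intro w hw
  by_contra hne
  have hsumU : ∀ w : V, ∑ i, ρ (r i) w = 0 → ∑ x ∈ (U : Set G).toFinset, ρ x w = 0 := by
    intro w hw
    have h3 : ∑ x ∈ (U : Set G).toFinset, ρ x w = avg ρ U w := by
      rw [avg, LinearMap.sum_apply]
      refine Finset.sum_bij' (fun x hx => (⟨x, by simpa using hx⟩ : U)) (fun x _ => (x : G))
        ?_ ?_ ?_ ?_ ?_ <;> simp
    rw [h3]
    apply hfix
    · have : ∀ i, ρ (r i) (avg ρ U w) = avg ρ U (ρ (r i) w) := by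
        intro i
        simp only [avg, LinearMap.sum_apply, map_sum]
        refine Finset.sum_congr rfl fun x _ => ?_
        rw [← Module.End.mul_apply, ← map_mul, hrU i x x.2, map_mul, Module.End.mul_apply]
      rw [Finset.sum_congr rfl fun i _ => this i, ← map_sum, hw, map_zero]
    · intro u hu
      rw [← Module.End.mul_apply, mul_avg ρ U hu]
  have hZ : Z ≤ U := hZU
  haveI : Finite Z := Finite.of_injective (Subgroup.inclusion hZ) (Subgroup.inclusion_injective hZ)
  haveI : Fintype Z := Fintype.ofFinite Z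
  have s2 := shift ρ hι r y2 (U : Set G).toFinset (Z : Set G).toFinset
    (by intro x hx; simp only [Set.mem_toFinset, SetLike.mem_coe] at hx ⊢; exact hZ hx)
    (by
      intro x hx hx0
      simp only [Set.mem_toFinset, SetLike.mem_coe] at hx hx0
      exact h21 x hx hx0)
    (by
      intro x hx d
      simp only [Set.mem_toFinset, SetLike.mem_coe] at hx
      exact h22 x hx d) hr2 hsumU
  have s1 := shift ρ hι r y1 (Z : Set G).toFinset {1}
    (by simp [Z.one_mem])
    (by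
      intro x hx hx0
      simp only [Set.mem_toFinset, SetLike.mem_coe, Finset.mem_singleton] at hx hx0
      exact h11 x hx hx0)
    (by
      intro x hx d
      rw [Finset.mem_singleton.1 hx]
      group) hr1 s2 w hw
  rw [Finset.sum_singleton, map_one, Module.End.one_apply] at s1
  exact hne s1

/-- If the `r i` form a group, they act trivially. -/
theorem trivial_of_ker {ι : Type*} [Fintype ι] [AddCommGroup ι] (ρ : G →* Module.End k V) (r : ι → G)
    (hr : ∀ i j, r (i + j) = r i * r j) (h : ∀ w : V, ∑ i, ρ (r i) w = 0 → w = 0) (i : ι) (v : V) :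
    ρ (r i) v = v := by
  have h1 : ∑ j, ρ (r j) (ρ (r i) v - v) = 0 := by
    simp only [map_sub, Finset.sum_sub_distrib]
    rw [sub_eq_zero]
    refine Fintype.sum_equiv (Equiv.addRight i) _ _ fun j => ?_
    rw [Equiv.coe_addRight, hr, map_mul, Module.End.mul_apply]
  exact sub_eq_zero.1 (h _ h1)

end Cfsg.Agent.H992.RkOne
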